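import Groth.Agent.Ega4B.DepthBasic
import Groth.Agent.Ega4A.DepthBasic
import Groth.Agent.Localalg.Depth2
import Groth.Agent.Localalg.Depth3
import Mathlib.RingTheory.Ideal.AssociatedPrime.Localization
import Mathlib.RingTheory.Ideal.KrullsHeightTheorem

/-!
# Depth and restriction of scalars, depth and generators
-/

set_option autoImplicit false
universe u v

open RingTheory.Sequence IsLocalRing Pointwise

namespace K170.DepthGen

section Restrict

variable {A B : Type u} [CommRing A] [CommRing B] [Algebra A B]

theorem smul_top_eq_top_iff (a : Ideal A) (M : Type u) [AddCommGroup M] [Module B M] [Module A M]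
    [IsScalarTower A B M] :
    a • (⊤ : Submodule A M) = ⊤ ↔ (a.map (algebraMap A B)) • (⊤ : Submodule B M) = ⊤ := by
  have h := Ideal.smul_restrictScalars (R := A) (S := B) (M := M) a ⊤
  rw [Submodule.restrictScalars_top] at h
  rw [← h, Submodule.restrictScalars_eq_top_iff]

theorem map_ofList (rs : List A) :
    (Ideal.ofList rs).map (algebraMap A B) = Ideal.ofList (rs.map (algebraMap A B)) :=
  Ideal.map_ofList (algebraMap A B) rs

/-- depth over a finite algebra. -/
theorem idealDepth_restrict [IsNoetherianRing A] [Module.Finite A B] (a : Ideal A)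
    (M : Type u) [AddCommGroup M] [Module B M] [Module A M] [IsScalarTower A B M]
    [Module.Finite B M] :
    LocCoh.idealDepth a M = LocCoh.idealDepth (a.map (algebraMap A B)) M := by
  have hB : IsNoetherianRing B := IsNoetherianRing.of_finite A B
  have hMA : Module.Finite A M := Module.Finite.trans B M
  by_cases h : a • (⊤ : Submodule A M) = ⊤
  · rw [Groth.Agent.Ega4B.DepthBasic.idealDepth_eq_top h,
      Groth.Agent.Ega4B.DepthBasic.idealDepth_eq_top ((smul_top_eq_top_iff a M).mp h)]
  · have h' : (a.map (algebraMap A B)) • (⊤ : Submodule B M) ≠ ⊤ :=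
      fun h' => h ((smul_top_eq_top_iff a M).mpr h')
    have hlt := Groth.Agent.Localalg.Depth3.idealDepth_lt_top a M h
    obtain ⟨n, hn⟩ := ENat.ne_top_iff_exists.mp hlt.ne
    obtain ⟨rs, hlen, hmem, hreg⟩ :=
      (Groth.Agent.Ega4B.DepthBasic.natCast_le_idealDepth_iff h n).mp hn.le
    have hA := Groth.Agent.Ega4B.DepthBasic.idealDepth_quot_ofList_add_length a rs hmem M hreg
    have hregB : IsWeaklyRegular M (rs.map (algebraMap A B)) :=
      (isWeaklyRegular_map_algebraMap_iff B M rs).mpr hreg
    have hmemB : ∀ r ∈ rs.map (algebraMap A B), r ∈ a.map (algebraMap A B) := by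
      intro r hr
      obtain ⟨s, hs, rfl⟩ := List.mem_map.mp hr
      exact Ideal.mem_map_of_mem _ (hmem s hs)
    have hBB := Groth.Agent.Ega4B.DepthBasic.idealDepth_quot_ofList_add_length
      (a.map (algebraMap A B)) (rs.map (algebraMap A B)) hmemB M hregB
    rw [← hA, ← hBB, List.length_map]
    congr 1
    -- both are zero
    have h0 : LocCoh.idealDepth a (M ⧸ Ideal.ofList rs • (⊤ : Submodule A M)) = 0 := by
      rw [← hn, hlen] at hA
      generalize LocCoh.idealDepth a (M ⧸ Ideal.ofList rs • (⊤ : Submodule A M)) = d at hA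
      cases d with
      | top => simp at hA
      | coe d => 
        have h1 : d + n = n := by exact_mod_cast hA
        have : d = 0 := by omega
        rw [this]; rfl
    rw [h0]
    symm
    obtain ⟨p, hp, hap⟩ :=
      Groth.Agent.Localalg.Depth2.exists_mem_associatedPrimes_of_idealDepth_eq_zero h0
    obtain ⟨hprime, x, hx⟩ := (isAssociatedPrime_iff).mp hp
    have hx0 : x ≠ 0 := by
      rintro rfl
      apply hprime.ne_top
      rw [hx]
      ext y
      simp [Submodule.mem_colon_singleton]
    have hkill : ∀ y ∈ a, y • x = 0 := by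
      intro y hy
      have : y ∈ p := hap hy
      rw [hx, Submodule.mem_colon_singleton] at this
      simpa using this
    obtain ⟨m, rfl⟩ := Submodule.Quotient.mk_surjective _ x
    have hsub : (Ideal.ofList (rs.map (algebraMap A B)) • (⊤ : Submodule B M)).restrictScalars A =
        Ideal.ofList rs • (⊤ : Submodule A M) := by
      rw [← map_ofList, Ideal.smul_restrictScalars, Submodule.restrictScalars_top]
    have hm0 : (Submodule.Quotient.mk m :
        M ⧸ Ideal.ofList (rs.map (algebraMap A B)) • (⊤ : Submodule B M)) ≠ 0 := by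
      intro h0
      apply hx0
      rw [Submodule.Quotient.mk_eq_zero] at h0 ⊢
      rw [← hsub]
      exact h0
    have hmk : ∀ b ∈ a.map (algebraMap A B), b • (Submodule.Quotient.mk m :
        M ⧸ Ideal.ofList (rs.map (algebraMap A B)) • (⊤ : Submodule B M)) = 0 := by
      intro b hb
      induction hb using Submodule.span_induction with
      | mem b hb =>
        obtain ⟨y, hy, rfl⟩ := hb
        have h1 := hkill y hy
        rw [← Submodule.Quotient.mk_smul, Submodule.Quotient.mk_eq_zero] at h1 ⊢
        rw [← hsub] at h1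
        rw [algebraMap_smul]
        exact h1
      | zero => simp
      | add b c _ _ hb hc => rw [add_smul, hb, hc, add_zero]
      | smul c b _ hb => rw [smul_assoc, hb, smul_zero]
    refine Groth.Agent.Localalg.Depth2.idealDepth_eq_zero_of_forall_not_isSMulRegular ?_ ?_
    · intro htop
      apply h'
      have h1 : a.map (algebraMap A B) • (⊤ : Submodule B M) ⊔
          (Ideal.ofList (rs.map (algebraMap A B)) • (⊤ : Submodule B M)) = ⊤ := by
        have := congrArg (Submodule.comap (Submodule.mkQ
          (Ideal.ofList (rs.map (algebraMap A B)) • (⊤ : Submodule B M)))) htop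
        rw [Submodule.comap_smul_top_of_surjective _ _ (Submodule.mkQ_surjective _),
          Submodule.comap_top, Submodule.ker_mkQ] at this
        exact this
      have h2 : Ideal.ofList (rs.map (algebraMap A B)) • (⊤ : Submodule B M) ≤
          a.map (algebraMap A B) • (⊤ : Submodule B M) := by
        refine Submodule.smul_mono_left ?_
        rw [Ideal.ofList, Ideal.span_le]
        exact fun r hr => hmemB r hr
      exact (sup_eq_left.mpr h2).symm.trans h1
    · intro b hb hbreg
      exact hm0 (hbreg.right_eq_zero_of_smul (hmk b hb))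

end Restrict

section Gen

variable {R : Type u} [CommRing R] [IsNoetherianRing R]

omit [IsNoetherianRing R] in
theorem spanRank_ofList_le (ys : List R) : (Ideal.ofList ys).spanRank.toENat ≤ ys.length := by
  classical
  rw [Submodule.spanRank_toENat_eq_iInf_finset_card]
  refine (iInf_le _ (⟨ys.toFinset, by
    change Ideal.span _ = Ideal.span _
    congr 1
    ext x
    simp⟩ : {s : Finset R // Submodule.span R (s : Set R) = Ideal.ofList ys})).trans ?_
  exact_mod_cast List.toFinset_card_le ys

/-- If `q` is minimal over `p ⊔ (ys)` then `dim R_q / p R_q ≤ |ys|`. -/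
theorem ringKrullDim_quotient_localization_le (p q : Ideal R) [p.IsPrime] [q.IsPrime]
    (ys : List R) (hq : q ∈ (p ⊔ Ideal.ofList ys).minimalPrimes) :
    ringKrullDim (Localization.AtPrime q ⧸ p.map (algebraMap R (Localization.AtPrime q))) ≤
      ys.length := by
  let S := Localization.AtPrime q
  let P : Ideal S := p.map (algebraMap R S)
  have hpq : p ≤ q := le_sup_left.trans hq.1.2
  have hyq : ∀ y ∈ ys, y ∈ q := fun y hy =>
    hq.1.2 (Ideal.mem_sup_right (Ideal.subset_span hy))
  have hSN : IsNoetherianRing S := IsLocalization.isNoetherianRing q.primeCompl _ inferInstance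
  have hdis : Disjoint (q.primeCompl : Set R) (p : Set R) := by
    rw [Set.disjoint_left]
    exact fun x hx hxp => hx (hpq hxp)
  have hP : P.IsPrime := IsLocalization.isPrime_of_isPrime_disjoint q.primeCompl S p inferInstance hdis
  have : IsLocalRing (S ⧸ P) :=
    IsLocalRing.of_surjective' (Ideal.Quotient.mk P) Ideal.Quotient.mk_surjective
  have hmax : maximalIdeal (S ⧸ P) ∈
      (Ideal.ofList (ys.map (algebraMap R (S ⧸ P)))).minimalPrimes := by
    have hle : maximalIdeal (S ⧸ P) ≤ q.map (algebraMap R (S ⧸ P)) := by
      intro t ht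
      obtain ⟨s, rfl⟩ := Ideal.Quotient.mk_surjective t
      have hs : s ∈ maximalIdeal S := by
        rw [IsLocalRing.mem_maximalIdeal] at ht ⊢
        exact fun h => ht (h.map _)
      have h2 : q.map (algebraMap R (S ⧸ P)) = (q.map (algebraMap R S)).map (Ideal.Quotient.mk P) := by
        rw [Ideal.map_map]; rfl
      rw [h2, Localization.AtPrime.map_eq_maximalIdeal]
      exact Ideal.mem_map_of_mem _ hs
    have hcomap : (maximalIdeal (S ⧸ P)).comap (algebraMap R (S ⧸ P)) ≤ q := by
      intro r hr
      by_contra hrq
      rw [Ideal.mem_comap, IsLocalRing.mem_maximalIdeal] at hr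
      refine hr ?_
      have h1 : IsUnit (algebraMap R S r) := IsLocalization.map_units S (⟨r, hrq⟩ : q.primeCompl)
      exact h1.map (Ideal.Quotient.mk P)
    refine ⟨⟨inferInstance, ?_⟩, fun Q' hQ' hle' => ?_⟩
    · rw [Ideal.ofList, Ideal.span_le]
      intro t ht
      obtain ⟨y, hy, rfl⟩ := List.mem_map.mp ht
      rw [SetLike.mem_coe, IsLocalRing.mem_maximalIdeal]
      have h1 : algebraMap R S y ∈ maximalIdeal S :=
        (IsLocalization.AtPrime.to_map_mem_maximal_iff S q y).mpr (hyq y hy)
      intro hu
      have h3 : IsLocalHom (Ideal.Quotient.mk P) :=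
        IsLocalHom.of_surjective _ Ideal.Quotient.mk_surjective
      exact h1 (isUnit_of_map_unit (Ideal.Quotient.mk P) _ hu)
    · have hQp := hQ'.1
      have h1 : (p ⊔ Ideal.ofList ys) ≤ Q'.comap (algebraMap R (S ⧸ P)) := by
        refine sup_le ?_ ?_
        · intro x hx
          rw [Ideal.mem_comap]
          have : algebraMap R (S ⧸ P) x = 0 := by
            change Ideal.Quotient.mk P (algebraMap R S x) = 0
            rw [Ideal.Quotient.eq_zero_iff_mem]
            exact Ideal.mem_map_of_mem _ hx
          rw [this]
          exact Q'.zero_mem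
        · rw [Ideal.ofList, Ideal.span_le]
          intro y hy
          exact hQ'.2 (Ideal.subset_span (List.mem_map.mpr ⟨y, hy, rfl⟩))
      have h2 : Q'.comap (algebraMap R (S ⧸ P)) ≤ q := (Ideal.comap_mono hle').trans hcomap
      have h3 : q ≤ Q'.comap (algebraMap R (S ⧸ P)) := hq.2 ⟨inferInstance, h1⟩ h2
      exact hle.trans (Ideal.map_le_iff_le_comap.mpr h3)
  have hk := Ideal.height_le_spanRank_toENat_of_mem_minimalPrimes _ _ hmax
  have h4 : (maximalIdeal (S ⧸ P)).height ≤ (ys.length : ℕ∞) := by
    refine hk.trans ((spanRank_ofList_le _).trans ?_)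
    rw [List.length_map]
  change ringKrullDim (S ⧸ P) ≤ _
  rw [← IsLocalRing.maximalIdeal_height_eq_ringKrullDim]
  exact_mod_cast h4

theorem idealDepth_le_of_le_sup [IsLocalRing R] {M : Type u} [AddCommGroup M] [Module R M]
    [Module.Finite R M] {p : Ideal R} (hp : p ∈ associatedPrimes R M) (ys : List R)
    (hys : ∀ y ∈ ys, y ∈ maximalIdeal R) (I : Ideal R) (hI : I ≤ p ⊔ Ideal.ofList ys) :
    LocCoh.idealDepth I M ≤ ys.length := by
  have hpp : p.IsPrime := IsAssociatedPrime.isPrime hp
  have hle : p ⊔ Ideal.ofList ys ≤ maximalIdeal R := by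
    refine sup_le (le_maximalIdeal hpp.ne_top) ?_
    rw [Ideal.ofList, Ideal.span_le]
    exact hys
  obtain ⟨q, hq, -⟩ := Ideal.exists_minimalPrimes_le hle
  have hqp : q.IsPrime := hq.1.1
  have hpq : p ≤ q := le_sup_left.trans hq.1.2
  have hSN : IsNoetherianRing (Localization.AtPrime q) :=
    IsLocalization.isNoetherianRing q.primeCompl _ inferInstance
  have hdis : Disjoint (q.primeCompl : Set R) (p : Set R) := by
    rw [Set.disjoint_left]
    exact fun x hx hxp => hx (hpq hxp)
  have hass : p.map (algebraMap R (Localization.AtPrime q)) ∈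
      associatedPrimes (Localization.AtPrime q) (LocalizedModule q.primeCompl M) := by
    refine Module.associatedPrimes.mem_associatedPrimes_of_comap_mem_associatedPrimes_of_isLocalizedModule
      q.primeCompl (LocalizedModule.mkLinearMap q.primeCompl M) _ ?_
    have : Ideal.comap (algebraMap R (Localization.AtPrime q))
        (Ideal.map (algebraMap R (Localization.AtPrime q)) p) = p :=
      IsLocalization.under_map_of_isPrime_disjoint q.primeCompl (Localization.AtPrime q)
      hpp hdis
    rwa [this]
  have h1 := Groth.Agent.Localalg.Depth3.idealDepth_le_depth_localization I M q (hI.trans hq.1.2)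
  have h2 := Groth.Agent.Localalg.Depth2.depth_le_ringKrullDim_quotient_of_mem_associatedPrimes hass
  have h3 := ringKrullDim_quotient_localization_le p q ys hq
  have h4 : ((LocCoh.idealDepth I M : ℕ∞) : WithBot ℕ∞) ≤ ((ys.length : ℕ∞) : WithBot ℕ∞) :=
    (WithBot.coe_le_coe.mpr h1).trans (h2.trans h3)
  exact WithBot.coe_le_coe.mp h4

omit [IsNoetherianRing R] in
/-- The depth of `M / xM` with respect to an ideal only depends on the ideal modulo `x`. -/
theorem idealDepth_quotSMulTop_congr (M : Type u) [AddCommGroup M] [Module R M] (x : R)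
    (I J : Ideal R) (h : I.map (Ideal.Quotient.mk (Ideal.span {x})) =
      J.map (Ideal.Quotient.mk (Ideal.span {x}))) :
    LocCoh.idealDepth I (QuotSMulTop x M) = LocCoh.idealDepth J (QuotSMulTop x M) := by
  have heq : (x • (⊤ : Submodule R M)) = Ideal.span {x} • (⊤ : Submodule R M) :=
    (Submodule.ideal_span_singleton_smul x ⊤).symm
  let e : QuotSMulTop x M ≃ₗ[R] (M ⧸ (Ideal.span {x} • (⊤ : Submodule R M))) :=
    Submodule.quotEquivOfEq _ _ heq
  have key : ∀ K : Ideal R, LocCoh.idealDepth K (QuotSMulTop x M) =
      LocCoh.idealDepth (K.map (Ideal.Quotient.mk (Ideal.span {x})))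
        (M ⧸ (Ideal.span {x} • (⊤ : Submodule R M))) := fun K =>
    Groth.Agent.Ega4A.DepthBasic.idealDepth_congr_of_surjective
      (Ideal.Quotient.mk (Ideal.span {x})) Ideal.Quotient.mk_surjective K _ _ e.toAddEquiv
      (fun r m => e.map_smul r m)
  rw [key I, key J, h]

theorem isWeaklyRegular_of_idealDepth [IsLocalRing R] (xs : List R) :
    ∀ (_ : ∀ x ∈ xs, x ∈ maximalIdeal R) (M : Type u) [AddCommGroup M] [Module R M]
      [Module.Finite R M] [Nontrivial M]
      (_ : LocCoh.idealDepth (Ideal.ofList xs) M = xs.length), IsWeaklyRegular M xs := by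
  induction xs with
  | nil => intro _ M _ _ _ _ _; exact IsWeaklyRegular.nil R M
  | cons x xs ih =>
    intro hxs M _ _ _ _ h
    have hreg : IsSMulRegular M x := by
      by_contra hcon
      have : x ∈ {r : R | ¬ IsSMulRegular M r} := hcon
      have h2 : x ∈ ⋃ p ∈ associatedPrimes R M, (p : Set R) := by
        rw [biUnion_associatedPrimes_eq_compl_regular R M]
        exact this
      simp only [Set.mem_iUnion] at h2
      obtain ⟨p, hp, hxp⟩ := h2
      have h3 := idealDepth_le_of_le_sup hp xs (fun y hy => hxs y (List.mem_cons_of_mem _ hy))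
        (Ideal.ofList (x :: xs)) (by
          rw [Ideal.ofList_cons]
          exact sup_le_sup_right ((Ideal.span_singleton_le_iff_mem p).mpr hxp) _)
      rw [h, List.length_cons] at h3
      have h4 : xs.length + 1 ≤ xs.length := by exact_mod_cast h3
      omega
    rw [isWeaklyRegular_cons_iff]
    refine ⟨hreg, ?_⟩
    have hnt : Nontrivial (QuotSMulTop x M) := by
      have := Groth.Agent.Localalg.Depth2.smul_top_ne_top_of_local (R := R)
        (I := Ideal.span {x}) (by
          intro htop
          have h1 := hxs x (List.mem_cons_self)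
          rw [Ideal.span_singleton_eq_top] at htop
          exact h1 htop) M
      rw [Submodule.ideal_span_singleton_smul] at this
      exact Submodule.Quotient.nontrivial_iff.mpr this
    refine ih (fun y hy => hxs y (List.mem_cons_of_mem _ hy)) (QuotSMulTop x M) ?_
    have h5 := Groth.Agent.Ega4B.DepthBasic.idealDepth_quotSMulTop_add_one
      (Ideal.ofList (x :: xs)) M x (Ideal.subset_span List.mem_cons_self) hreg
    -- compare ideals
    have h6 : LocCoh.idealDepth (Ideal.ofList (x :: xs)) (QuotSMulTop x M) =
        LocCoh.idealDepth (Ideal.ofList xs) (QuotSMulTop x M) := by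
      apply idealDepth_quotSMulTop_congr
      rw [Ideal.ofList_cons, Ideal.map_sup, Ideal.map_quotient_self, bot_sup_eq]
    rw [h6, h, List.length_cons] at h5
    generalize LocCoh.idealDepth (Ideal.ofList xs) (QuotSMulTop x M) = d at h5
    cases d with
    | top => exact absurd h5 (by rw [top_add]; exact ENat.top_ne_natCast _)
    | coe d =>
      have h1 : d + 1 = xs.length + 1 := by exact_mod_cast h5
      have : d = xs.length := by omega
      rw [this]

theorem idealDepth_ofList_eq_length [IsLocalRing R] (xs : List R)
    (hxs : ∀ x ∈ xs, x ∈ maximalIdeal R) (M : Type u) [AddCommGroup M] [Module R M]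
    [Module.Finite R M] [Nontrivial M] (h : IsWeaklyRegular M xs) :
    LocCoh.idealDepth (Ideal.ofList xs) M = xs.length := by
  rw [← Groth.Agent.Ega4B.DepthBasic.idealDepth_quot_ofList_add_length (Ideal.ofList xs) xs
    (fun r hr => Ideal.subset_span hr) M h]
  have h0 : LocCoh.idealDepth (Ideal.ofList xs) (M ⧸ Ideal.ofList xs • (⊤ : Submodule R M)) = 0 := by
    have hne : Ideal.ofList xs ≠ ⊤ := by
      intro htop
      have : Ideal.ofList xs ≤ maximalIdeal R := by
        rw [Ideal.ofList, Ideal.span_le]
        exact hxs
      rw [htop, top_le_iff] at this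
      exact (IsLocalRing.maximalIdeal.isMaximal R).ne_top this
    have hnt : Nontrivial (M ⧸ Ideal.ofList xs • (⊤ : Submodule R M)) :=
      Submodule.Quotient.nontrivial_iff.mpr
        (Groth.Agent.Localalg.Depth2.smul_top_ne_top_of_local hne M)
    have hkill : ∀ r ∈ Ideal.ofList xs, ∀ m : M ⧸ Ideal.ofList xs • (⊤ : Submodule R M),
        r • m = 0 := by
      intro r hr m
      obtain ⟨m, rfl⟩ := Submodule.Quotient.mk_surjective _ m
      rw [← Submodule.Quotient.mk_smul, Submodule.Quotient.mk_eq_zero]
      exact Submodule.smul_mem_smul hr trivial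
    refine Groth.Agent.Localalg.Depth2.idealDepth_eq_zero_of_forall_not_isSMulRegular
      (Groth.Agent.Localalg.Depth2.smul_top_ne_top_of_local hne _) ?_
    intro r hr hreg
    obtain ⟨m, hm⟩ := exists_ne (0 : M ⧸ Ideal.ofList xs • (⊤ : Submodule R M))
    exact hm (hreg.right_eq_zero_of_smul (hkill r hr m))
  rw [h0, zero_add]

end Gen

section Height

variable {R : Type u} [CommRing R] [IsNoetherianRing R]

/-- There is a prime over `I` realizing the depth. -/
theorem exists_depth_localization_eq (I : Ideal R) (M : Type u) [AddCommGroup M] [Module R M]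
    [Module.Finite R M] (hIM : I • (⊤ : Submodule R M) ≠ ⊤) :
    ∃ q : Ideal R, ∃ _ : q.IsPrime, I ≤ q ∧ LocCoh.idealDepth I M =
      LocCoh.depth (Localization.AtPrime q) (LocalizedModule q.primeCompl M) := by
  have hlt := Groth.Agent.Localalg.Depth3.idealDepth_lt_top I M hIM
  obtain ⟨n, hn⟩ := ENat.ne_top_iff_exists.mp hlt.ne
  induction n generalizing M with
  | zero =>
    obtain ⟨p, hp, hap⟩ :=
      Groth.Agent.Localalg.Depth2.exists_mem_associatedPrimes_of_idealDepth_eq_zero hn.symm
    have hpp : p.IsPrime := IsAssociatedPrime.isPrime hp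
    have hSN : IsNoetherianRing (Localization.AtPrime p) :=
      IsLocalization.isNoetherianRing p.primeCompl _ inferInstance
    refine ⟨p, hpp, hap, ?_⟩
    rw [← hn]
    have h1 := Module.associatedPrimes.mem_associatedPrimes_atPrime_of_mem_associatedPrimes hp
    exact (Groth.Agent.Localalg.Depth2.idealDepth_eq_zero_of_le_associatedPrime h1 le_rfl).symm
  | succ n ih =>
    obtain ⟨x, hx, hreg⟩ := Groth.Agent.Localalg.Depth2.exists_regular_of_idealDepth_ne_zero hIM
      (by rw [← hn]; exact_mod_cast Nat.succ_ne_zero n)
    have h1 := Groth.Agent.Ega4B.DepthBasic.idealDepth_quotSMulTop_add_one I M x hx hreg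
    have h2 : I • (⊤ : Submodule R (QuotSMulTop x M)) ≠ ⊤ :=
      Groth.Agent.Localalg.Depth2.smul_quotSMulTop_ne_top hx hIM
    have h3 : (n : ℕ∞) = LocCoh.idealDepth I (QuotSMulTop x M) := by
      rw [← hn] at h1
      generalize LocCoh.idealDepth I (QuotSMulTop x M) = d at h1
      cases d with
      | top => exact absurd h1 (by rw [top_add]; exact ENat.top_ne_natCast _)
      | coe d =>
        have h1 : d + 1 = n + 1 := by exact_mod_cast h1
        have : d = n := by omega
        rw [this]
    obtain ⟨q, hq, hIq, h⟩ := ih (QuotSMulTop x M) h2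
      (Groth.Agent.Localalg.Depth3.idealDepth_lt_top I _ h2) h3
    refine ⟨q, hq, hIq, ?_⟩
    have hreg' : IsSMulRegular (LocalizedModule q.primeCompl M)
        (algebraMap R (Localization.AtPrime q) x) :=
      (Groth.Agent.Localalg.Depth3.isSMulRegular_localized_iff q x).mpr fun m hm =>
        ⟨1, (Ideal.ne_top_iff_one q).mp hq.ne_top, by
          rw [hreg.right_eq_zero_of_smul hm, smul_zero]⟩
    rw [← h1, h]
    exact Groth.Agent.Localalg.Depth3.depth_localized_quotSMulTop_add_one q M x (hIq hx) hreg'

omit [IsNoetherianRing R] in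
theorem smul_top_self_ne_top {a : Ideal R} (ha : a ≠ ⊤) : a • (⊤ : Submodule R R) ≠ ⊤ := by
  rw [smul_eq_mul, Ideal.mul_top]
  exact ha

omit [IsNoetherianRing R] in
theorem depth_localizedModule_self (q : Ideal R) [q.IsPrime] :
    LocCoh.depth (Localization.AtPrime q) (LocalizedModule q.primeCompl R) =
      LocCoh.depth (Localization.AtPrime q) (Localization.AtPrime q) :=
  Groth.Agent.Ega4B.DepthBasic.depth_congr
    (LinearEquiv.extendScalarsOfIsLocalization q.primeCompl (Localization.AtPrime q)
    (IsLocalizedModule.linearEquiv q.primeCompl (LocalizedModule.mkLinearMap q.primeCompl R)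
      (Algebra.linearMap R (Localization.AtPrime q))))

theorem depth_localization_le_height (q : Ideal R) [q.IsPrime] :
    LocCoh.depth (Localization.AtPrime q) (Localization.AtPrime q) ≤ q.height := by
  have : IsNoetherianRing (Localization.AtPrime q) :=
    IsLocalization.isNoetherianRing q.primeCompl _ inferInstance
  have h1 := Groth.Agent.Localalg.Depth2.depth_le_supportDim (R := Localization.AtPrime q)
    (Localization.AtPrime q)
  rw [Module.supportDim_self_eq_ringKrullDim,
    IsLocalization.AtPrime.ringKrullDim_eq_height q (Localization.AtPrime q)] at h1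
  exact_mod_cast h1

theorem isCohenMacaulayRing_iff :
    LocCoh.IsCohenMacaulayRing R ↔ ∀ a : Ideal R, a ≠ ⊤ → LocCoh.idealDepth a R = a.height := by
  constructor
  · intro h a ha
    apply le_antisymm
    · rw [Ideal.height_eq_inf_minimalPrimes]
      refine le_iInf₂ fun q hq => ?_
      have hqp : q.IsPrime := hq.1.1
      refine (Groth.Agent.Localalg.Depth3.idealDepth_le_depth_localization a R q hq.1.2).trans ?_
      rw [depth_localizedModule_self]
      exact depth_localization_le_height q
    · obtain ⟨q, hq, haq, hd⟩ := exists_depth_localization_eq a R (smul_top_self_ne_top ha)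
      rw [hd, depth_localizedModule_self]
      refine (Ideal.height_mono haq).trans ?_
      have h1 := (h.isCohenMacaulayLocalRing_localization q).supportDim_eq_depth
      rw [Module.supportDim_self_eq_ringKrullDim,
        IsLocalization.AtPrime.ringKrullDim_eq_height q (Localization.AtPrime q)] at h1
      exact_mod_cast h1.le
  · intro h
    refine ⟨fun p hp => ?_⟩
    have hN : IsNoetherianRing (Localization.AtPrime p) :=
      IsLocalization.isNoetherianRing p.primeCompl _ inferInstance
    refine ⟨?_⟩
    have h1 := Groth.Agent.Localalg.Depth3.idealDepth_le_depth_localization p R p le_rfl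
    rw [depth_localizedModule_self, h p hp.ne_top] at h1
    rw [Module.supportDim_self_eq_ringKrullDim,
      IsLocalization.AtPrime.ringKrullDim_eq_height p (Localization.AtPrime p)]
    exact congrArg _ (le_antisymm h1 (depth_localization_le_height p))

end Height

end K170.DepthGen
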