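import Groth.Agent.LocCoh.K170.GrTheta
import Groth.Agent.Localalg.HVLC

/-!
# The cokernel of `M → ⊕ Γ(Proj, M(n)~)` is `H^1_{R₊}(M)`
-/

set_option autoImplicit false
universe u

open CategoryTheory AlgebraicGeometry DirectSum Opposite TopologicalSpace GrMod K170.GrTilde

namespace K170.GrTheta

open Groth.Agent.FormalA.TildeAb

variable {R σ : Type u} [CommRing R] [SetLike σ R] [AddSubgroupClass σ R]
  {𝒜 : ℕ → σ} [GradedRing 𝒜] {M τ : Type u} [AddCommGroup M] [Module R M] [SetLike τ M]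
  [AddSubgroupClass τ M] {ℳ : ℕ → τ} [SetLike.GradedSMul 𝒜 ℳ] [DirectSum.Decomposition ℳ]

variable (𝒜 M) in
/-- Comparison of the two forms of the sections of `M~`. -/
noncomputable def toSecU : SecU 𝒜 M ≃+ sec (ModuleCat.of R M) (UO 𝒜) :=
  (((tilde.modulesSpecToSheafIso (R := CommRingCat.of R) (ModuleCat.of R M)).app
    (op (UO 𝒜))).symm.toLinearEquiv).toAddEquiv

theorem toSecU_toOpen (m : M) :
    toSecU 𝒜 M (StructureSheaf.toOpenₗ R M (UO 𝒜) m) = toSec (ModuleCat.of R M) (UO 𝒜) m := rfl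

theorem theta_alpha (i : ℕ) (m : ℳ i) :
    theta (toSect (GrMod.alpha 𝒜 ℳ i m)) = StructureSheaf.toOpenₗ R M (UO 𝒜) (m : M) := by
  refine Subtype.ext (funext fun p => ?_)
  have hrep : RepS (toSect (GrMod.alpha 𝒜 ℳ i m)) 0 1 (m : M) := by
    intro x hx
    rw [comp_of_mem ℳ m.2, if_pos (by simp)]
    rfl
  have h1 : (1 : R) ∉ p.1.asIdeal := fun h => p.1.isPrime.ne_top ((Ideal.eq_top_iff_one _).mpr h)
  rw [theta_rep _ SetLike.GradedOne.one_mem hrep p h1, comp_of_mem ℳ m.2, if_pos (by simp)]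
  rfl

theorem nonempty_coker_equiv [IsNoetherianRing R] :
    Nonempty ((DirectSum ℤ (fun n : ℤ => ((GrMod.tilde 𝒜 ℳ n).val.obj (op ⊤) : Type u)) ⧸
        AddSubgroup.closure (⋃ i : ℕ, Set.range (fun m : ℳ i =>
          DirectSum.of (fun n : ℤ => ((GrMod.tilde 𝒜 ℳ n).val.obj (op ⊤) : Type u)) (i : ℤ)
            (GrMod.alpha 𝒜 ℳ i m)))) ≃+
      LocCoh.H (HomogeneousIdeal.irrelevant 𝒜).toIdeal 1 M) := by
  classical
  obtain ⟨d, -, hd, hds⟩ := Groth.Agent.Localalg.HVLC.exists_bd (A := R)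
    (HomogeneousIdeal.irrelevant 𝒜).toIdeal
  let φ : DirectSum ℤ (fun n : ℤ => SecN 𝒜 ℳ n) →+
      LocCoh.H (HomogeneousIdeal.irrelevant 𝒜).toIdeal 1 M :=
    (d (ModuleCat.of R M)).toAddMonoidHom.comp ((toSecU 𝒜 M).toAddMonoidHom.comp (Theta 𝒜 ℳ))
  have hφ : ∀ z, φ z = d (ModuleCat.of R M) (toSecU 𝒜 M (Theta 𝒜 ℳ z)) := fun _ => rfl
  have hφs : Function.Surjective φ := by
    intro y
    obtain ⟨s, rfl⟩ := hds (ModuleCat.of R M) y
    obtain ⟨t, rfl⟩ := (toSecU 𝒜 M).surjective s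
    obtain ⟨z, rfl⟩ := Theta_surjective (ℳ := ℳ) t
    exact ⟨z, rfl⟩
  have hof : ∀ (i : ℕ) (m : ℳ i), Theta 𝒜 ℳ (DirectSum.of (fun n : ℤ => SecN 𝒜 ℳ n) (i : ℤ)
      (GrMod.alpha 𝒜 ℳ i m)) = StructureSheaf.toOpenₗ R M (UO 𝒜) (m : M) := fun i m =>
    (Theta_of _ _).trans (theta_alpha i m)
  have hker : φ.ker = AddSubgroup.closure (⋃ i : ℕ, Set.range (fun m : ℳ i =>
      DirectSum.of (fun n : ℤ => SecN 𝒜 ℳ n) (i : ℤ) (GrMod.alpha 𝒜 ℳ i m))) := by
    apply le_antisymm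
    · intro z hz
      rw [AddMonoidHom.mem_ker, hφ, hd] at hz
      obtain ⟨m, hm⟩ := hz
      rw [← toSecU_toOpen] at hm
      have hm' := (toSecU 𝒜 M).injective hm
      have hz : z = ∑ i ∈ (decompose ℳ (m : M)).support,
          DirectSum.of (fun n : ℤ => SecN 𝒜 ℳ n) (i : ℤ)
            (GrMod.alpha 𝒜 ℳ i (decompose ℳ (m : M) i)) := by
        apply Theta_injective
        rw [map_sum, ← hm']
        conv_lhs => rw [← sum_support_decompose ℳ (m : M)]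
        rw [map_sum]
        exact Finset.sum_congr rfl fun i _ => (hof i _).symm
      rw [hz]
      refine AddSubgroup.sum_mem _ fun i _ => AddSubgroup.subset_closure ?_
      exact Set.mem_iUnion.mpr ⟨i, _, rfl⟩
    · rw [AddSubgroup.closure_le]
      rintro _ ⟨_, ⟨i, rfl⟩, m, rfl⟩
      rw [SetLike.mem_coe, AddMonoidHom.mem_ker, hφ, hof, hd]
      exact ⟨(m : M), (toSecU_toOpen _).symm⟩
  exact ⟨(QuotientAddGroup.quotientAddEquivOfEq hker.symm).trans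
    (QuotientAddGroup.quotientKerEquivOfSurjective φ hφs)⟩

end K170.GrTheta
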